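import Cfsg.Agent.H699.PD.TwD
import Cfsg.Agent.KFacts.RgdFiltTwAll
import Cfsg.Agent.H115.HC.TwoLin
import Cfsg.Agent.H35.ExcIdx

/-!
# S4246: no element of order `p` of `³D₄(q)`, `q` odd, centralises a Sylow `2`-subgroup (helper699)
-/

set_option autoImplicit false
set_option linter.unusedSectionVars false

namespace Cfsg.Agent.H699.PD

open CoxeterSystem Cfsg.Agent.ChevalleyStructure.CoxeterGeom Cfsg.Agent.Tits.Roots Cfsg.Agent.Tits.Core
  Cfsg.Agent.Tits.Exchange Cfsg.Agent.Nodes.Reps Cfsg.Agent.Nodes.BNOf Cfsg.Agent.Nodes.StabComb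
  Cfsg.Agent.Nodes.Bruhat Cfsg.Agent.Nodes.OppDec Cfsg.Agent.Nodes.LeviDec
open Cfsg.Lie Cfsg.Agent.ChevalleyStructure
open Cfsg.Agent.Nodes.RGDTwD4
open Cfsg.Agent.H160.PD (v Fx)

universe u

theorem v_lt {S : Type*} [Group S] [Finite S] {P C : Subgroup S} (h2 : 2 ∣ P.index) (hC : Nat.card C ∣ Nat.card P) :
    v 2 C < v 2 S := by
  have h1 : v 2 C ≤ v 2 P := (Nat.factorization_le_iff_dvd Nat.card_pos.ne' Nat.card_pos.ne').2 hC 2
  have h3 : v 2 S = v 2 P + P.index.factorization 2 := by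
    rw [v, v, ← Subgroup.card_mul_index P, Nat.factorization_mul Nat.card_pos.ne' Subgroup.index_ne_zero_of_finite,
      Finsupp.add_apply]
  have h4 : 1 ≤ P.index.factorization 2 :=
    (Nat.prime_two.dvd_iff_one_le_factorization Subgroup.index_ne_zero_of_finite).1 h2
  omega

/-- the indices -/
theorem even_index {q i x : ℕ} (hq : 1 < q) (hodd : Odd q) (hx : x = q ∨ x = q ^ 3)
    (h : i * (x + 1) * ((q ^ 3 - 1) * (q - 1)) = (q ^ 2 - 1) * (q ^ 6 - 1) * (q ^ 8 + q ^ 4 + 1)) : 2 ∣ i := by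
  obtain ⟨y, rfl⟩ : ∃ y, q = y + 1 := ⟨q - 1, by omega⟩
  have hy : 0 < y := by omega
  have e0 : y + 1 - 1 = y := by omega
  have e1 : (y + 1) ^ 2 - 1 = y * (y + 2) := by apply Nat.sub_eq_of_eq_add; ring
  have e2 : (y + 1) ^ 3 - 1 = y * (y ^ 2 + 3 * y + 3) := by apply Nat.sub_eq_of_eq_add; ring
  have e3 : (y + 1) ^ 6 - 1 = y * (y ^ 2 + 3 * y + 3) * ((y + 1) ^ 3 + 1) := by apply Nat.sub_eq_of_eq_add; ring
  rw [e0, e1, e2, e3] at h
  have hpos : 0 < y * (y ^ 2 + 3 * y + 3) * y := by positivity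
  have he : Even (y + 2) := by
    rcases hodd with ⟨m, hm⟩
    exact ⟨m + 1, by omega⟩
  rcases hx with rfl | rfl
  · have h1 : i = ((y + 1) ^ 3 + 1) * ((y + 1) ^ 8 + (y + 1) ^ 4 + 1) := by
      apply Nat.eq_of_mul_eq_mul_right (show 0 < (y + 1 + 1) * (y * (y ^ 2 + 3 * y + 3) * y) by positivity)
      calc i * ((y + 1 + 1) * (y * (y ^ 2 + 3 * y + 3) * y)) = i * (y + 1 + 1) * (y * (y ^ 2 + 3 * y + 3) * y) := by ring
        _ = _ := by rw [h]; ring
    have h2 : Even ((y + 1) ^ 3 + 1) := (hodd.pow).add_one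
    rw [h1]
    exact (even_iff_two_dvd.1 h2).mul_right _
  · have h1 : i = (y + 2) * ((y + 1) ^ 8 + (y + 1) ^ 4 + 1) := by
      apply Nat.eq_of_mul_eq_mul_right (show 0 < ((y + 1) ^ 3 + 1) * (y * (y ^ 2 + 3 * y + 3) * y) by positivity)
      calc i * (((y + 1) ^ 3 + 1) * (y * (y ^ 2 + 3 * y + 3) * y)) =
          i * ((y + 1) ^ 3 + 1) * (y * (y ^ 2 + 3 * y + 3) * y) := by ring
        _ = _ := by rw [h]; ring
    rw [h1]
    exact (even_iff_two_dvd.1 he).mul_right _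

variable {K : Type u} [Field K] [Fintype K] {q : ℕ}

/-- **No element of order `p` centralises a Sylow `2`-subgroup.** -/
theorem bt (hq : IsPrimePow q) (hK : Fintype.card K = q ^ 3) {p f : ℕ} [hp : Fact p.Prime] [CharP K p]
    (hqf : q = p ^ f) (hf : f ≠ 0) (hp2 : p ≠ 2) {y : ↥(twistedD4 K q)} (hy : orderOf y = p) :
    v 2 (Subgroup.centralizer {y}) < v 2 ↥(twistedD4 K q) := by
  obtain ⟨φ, hφ⟩ := D4Fixed.exists_frob hq hK
  let cs : CoxeterSystem CoxeterMatrix.G₂ CoxeterMatrix.G₂.Group := CoxeterMatrix.G₂.toCoxeterSystem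
  have hfin : Finite CoxeterMatrix.G₂.Group := Cfsg.Agent.Nodes.RGDFold.finite_W (hp := Cfsg.Agent.Nodes.RGDTwD4.hp) cs
    isCartan foldData
  have R := Cfsg.Agent.Nodes.RGDTwD4.rgd cs hK hφ p
  have hG1 : Nodes.RGDLib.G1 cs isCartan (X φ q) = ⊤ := G1_eq_top cs hK hφ
  have hG : GG cs isCartan (T K q) (X φ q) = ⊤ := KFacts.RgdFilt.GG_eq_top hG1
  have hq1 := hq.one_lt
  have hX := H934.RowTwD4.card_X hφ hq1 hK
  have hF := KFacts.RgdFiltTwAll.filt_fold cs isCartan foldData (foldGrp hφ (D4Fixed.twisted_le_fix hK hφ)) p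
  have hodd : Odd q := by rw [hqf]; exact (hp.1.odd_of_ne_two hp2).pow
  have hpg : IsPGroup p ↥(Subgroup.zpowers y) :=
    IsPGroup.of_card (n := 1) (by rw [Nat.card_zpowers, hy, pow_one])
  have hne : Subgroup.zpowers y ≠ ⊥ := by
    intro h1
    have h2 : y = 1 := by rwa [Subgroup.zpowers_eq_bot] at h1
    rw [h2, orderOf_one] at hy
    exact hp.1.one_lt.ne hy
  obtain ⟨g, J, hJ, -, hN⟩ := KFacts.RgdFilt.borel_tits_of_filt hF hG1 hpg hne
  -- a maximal parabolic subgroup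
  obtain ⟨i, hi⟩ : ∃ i : Fin 2, J ⊆ {i} := by
    by_contra hcon
    push Not at hcon
    apply hJ
    rw [Set.eq_univ_iff_forall]
    intro j
    by_contra hj
    obtain ⟨k, hk, hk'⟩ := Set.not_subset.1 (hcon (1 - j))
    apply hk'
    rw [Set.mem_singleton_iff]
    have : k ≠ j := fun h => hj (h ▸ hk)
    fin_cases j <;> fin_cases k <;> first | rfl | exact absurd rfl this
  have hPJ := H851.SimsRgd.PJ_mono R hi
  have hle : Subgroup.centralizer ({y} : Set ↥(twistedD4 K q)) ≤ cj g (PJ cs isCartan (T K q) (X φ q) {i}) := by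
    refine le_trans ?_ (hN.trans (cj_mono g hPJ))
    refine le_trans ?_ (Subgroup.centralizer_le_normalizer _)
    intro z hz
    rw [Subgroup.mem_centralizer_iff]
    rintro _ ⟨k, rfl⟩
    exact ((Commute.zpow_right (show Commute z y from Subgroup.mem_centralizer_singleton_iff.1 hz) k).symm).eq
  have hcard : Nat.card ↥(Subgroup.centralizer ({y} : Set ↥(twistedD4 K q))) ∣
      Nat.card ↥(PJ cs isCartan (T K q) (X φ q) {i}) := by
    rw [← Nodes.CardSup.card_cj (g := g) (PJ cs isCartan (T K q) (X φ q) {i})]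
    exact Subgroup.card_dvd_of_le hle
  refine v_lt ?_ hcard
  have hN' := H115.HC.Two.card_PJ R i
  have hT := H69.OutTwD4.card_T hq hK
  have hpq : p ∣ q := by rw [hqf]; exact dvd_pow_self p hf
  have hsub : ∀ k, k ≠ 0 → ¬ p ∣ q ^ k - 1 := by
    intro k hk h3
    have h4 : p ∣ q ^ k := dvd_pow hpq hk
    have h5 : 1 ≤ q ^ k := Nat.one_le_pow _ _ (by omega)
    have h6 := Nat.dvd_sub h4 h3
    rw [Nat.sub_sub_self h5] at h6
    exact hp.1.one_lt.ne' (Nat.dvd_one.1 h6)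
  have hP : ¬ p ∣ (q ^ 2 - 1) * (q ^ 6 - 1) * (q ^ 8 + q ^ 4 + 1) := by
    rw [hp.1.dvd_mul, hp.1.dvd_mul]
    rintro ((h3 | h3) | h3)
    · exact hsub 2 (by norm_num) h3
    · exact hsub 6 (by norm_num) h3
    · have h4 : p ∣ q ^ 8 + q ^ 4 := dvd_add (dvd_pow hpq (by norm_num)) (dvd_pow hpq (by norm_num))
      exact hp.1.one_lt.ne' (Nat.dvd_one.1 ((Nat.dvd_add_right h4).1 h3))
  have h6 := H35.ExcIdx.index_eq R hG hN' (d := 1) (fun h => hp.1.one_lt.ne' (Nat.dvd_one.1 h))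
    (t := (q ^ 3 - 1) * (q - 1)) (by rw [one_mul, hT])
    (P := (q ^ 2 - 1) * (q ^ 6 - 1) * (q ^ 8 + q ^ 4 + 1)) (b := f * 12) (by
      rw [one_mul, S1067.result hq hK, pow_mul, ← hqf]
      ring) hP
  refine even_index hq1 hodd ?_ h6
  rw [hX]
  split_ifs
  · exact Or.inl rfl
  · exact Or.inr rfl

end Cfsg.Agent.H699.PD
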