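import Cfsg.Agent.H699.PD.Gen
import Cfsg.Agent.H699.PD.TwDBT
import Cfsg.Agent.H83.RowD4

/-!
# S4246: the row `³D₄(q)` (helper699)
-/

set_option autoImplicit false

namespace Cfsg.Agent.H699.PD

open Subgroup Cfsg Cfsg.Lie Cfsg.Agent.H568 Cfsg.Agent.H83 Cfsg.Agent.H83.AutCount Cfsg.Agent.H160.PD

universe u

/-! ### numbers -/

theorem fact_lt {p f : ℕ} (hp : p.Prime) (hf : 1 ≤ f) : f.factorization p < f := by
  have h1 : p ^ f.factorization p ≤ f := Nat.ordProj_le p (by omega)
  exact lt_of_lt_of_le (Nat.lt_pow_self hp.one_lt) h1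

theorem fact_three {p : ℕ} : (3 : ℕ).factorization p ≤ 1 := by
  rw [Nat.prime_three.factorization, Finsupp.single_apply]
  split_ifs <;> omega

theorem fact_three_mul {p f : ℕ} (hf : 1 ≤ f) :
    (3 * f).factorization p = (3 : ℕ).factorization p + f.factorization p := by
  rw [Nat.factorization_mul (by norm_num) (by omega), Finsupp.add_apply]

theorem fact_out {p f : ℕ} (hp : p.Prime) (hf : 1 ≤ f) : (3 * f).factorization p < f ∨ (p = 3 ∧ f = 1) := by
  rw [fact_three_mul hf]
  by_cases hp3 : p = 3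
  · subst hp3
    by_cases hf1 : f = 1
    · exact Or.inr ⟨rfl, hf1⟩
    · left
      have h0 : (3 : ℕ).factorization 3 = 1 := Nat.prime_three.factorization_self
      rw [h0]
      obtain ⟨w, hw⟩ : ∃ w, w = f.factorization 3 := ⟨_, rfl⟩
      have h1 : 3 ^ w ≤ f := by rw [hw]; exact Nat.ordProj_le 3 (by omega)
      rw [← hw]
      rcases Nat.eq_zero_or_pos w with h2 | h2
      · omega
      · have h3 : ∀ k, k + 3 ≤ 3 ^ (k + 1) := by
          intro k
          induction k with
          | zero => norm_num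
          | succ k ih => rw [pow_succ]; omega
        have h4 := h3 (w - 1)
        rw [show w - 1 + 1 = w by omega] at h4
        omega
  · left
    have h0 : (3 : ℕ).factorization p = 0 := by
      apply Nat.factorization_eq_zero_of_not_dvd
      intro h
      exact hp3 ((Nat.prime_dvd_prime_iff_eq hp Nat.prime_three).1 h)
    rw [h0, zero_add]
    exact fact_lt hp hf

/-! ### centralisers -/

section

variable {S : Type*} [Group S]

theorem centralizer_conj (g x : S) :
    (centralizer {x}).map (MulAut.conj g).toMonoidHom = centralizer {g * x * g⁻¹} := by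
  ext y
  rw [mem_centralizer_singleton_iff]
  constructor
  · rintro ⟨z, hz, rfl⟩
    have hz' := mem_centralizer_singleton_iff.1 hz
    show g * z * g⁻¹ * (g * x * g⁻¹) = g * x * g⁻¹ * (g * z * g⁻¹)
    have e1 : g * z * g⁻¹ * (g * x * g⁻¹) = g * (z * x) * g⁻¹ := by group
    have e2 : g * x * g⁻¹ * (g * z * g⁻¹) = g * (x * z) * g⁻¹ := by group
    rw [e1, e2, hz']
  · intro hy
    refine ⟨g⁻¹ * y * g, mem_centralizer_singleton_iff.2 ?_, ?_⟩
    · have e1 : g⁻¹ * y * g * x = g⁻¹ * (y * (g * x * g⁻¹)) * g := by group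
      have e2 : x * (g⁻¹ * y * g) = g⁻¹ * (g * x * g⁻¹ * y) * g := by group
      rw [e1, e2, hy]
    · show g * (g⁻¹ * y * g) * g⁻¹ = y
      group

theorem card_centralizer_conj (g x : S) : Nat.card ↥(centralizer ({g * x * g⁻¹} : Set S)) =
    Nat.card ↥(centralizer ({x} : Set S)) := by
  rw [← centralizer_conj, Subgroup.card_map_of_injective (MulAut.conj g).injective]

theorem isCyclic_centralizer_conj (g x : S) (h : IsCyclic ↥(centralizer ({g * x * g⁻¹} : Set S))) :
    IsCyclic ↥(centralizer ({x} : Set S)) := by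
  rw [← centralizer_conj] at h
  have e := (centralizer ({x} : Set S)).equivMapOfInjective (MulAut.conj g).toMonoidHom (MulAut.conj g).injective
  exact isCyclic_of_injective e.toMonoidHom e.injective

end

/-! ### the row -/

/-- **`Row (³D₄(q))`.** -/
theorem row_tw {K : Type u} [Field K] [Fintype K] {q : ℕ} (hq : IsPrimePow q) (hK : Fintype.card K = q ^ 3) :
    Row ↥(twistedD4 K q) := by
  obtain ⟨r, f, hr', hf, hqf⟩ := id hq
  have hr'' : r.Prime := hr'.nat_prime
  have hr : Fact r.Prime := ⟨hr''⟩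
  have hcr : CharP K r := by
    obtain ⟨r', hr1⟩ := CharP.exists K
    have hr2 : r'.Prime := CharP.char_is_prime K r'
    obtain ⟨m, -, hm⟩ := FiniteField.card K r'
    rw [hK, ← hqf, ← pow_mul] at hm
    have h1 : r ∣ r' ^ (m : ℕ) := by
      rw [← hm]
      exact dvd_pow_self r (by omega)
    have h2 := (Nat.prime_dvd_prime_iff_eq hr'' hr2).1 (hr''.dvd_of_dvd_pow h1)
    rw [h2]; exact hr1
  obtain ⟨hsim, hna⟩ := S1071.result hq hK
  have hZ := H69.OutTwD4.center_eq_bot hq hK
  obtain ⟨l, hl, hord, hlN', hlf, hlr⟩ := RowD4.exists_l hr'' (f := f) (by omega)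
  have hlN : l ∣ q ^ 4 - q ^ 2 + 1 := by rw [← hqf]; exact hlN'
  obtain ⟨x0, hx0, hx0c, b, hb⟩ := TorD4.exists_x0 hq hK r
  set N := q ^ 4 - q ^ 2 + 1 with hN
  have hNpos : 0 < N := by omega
  obtain ⟨m, hm⟩ := hlN
  have hm0 : m ≠ 0 := by rintro rfl; omega
  -- the element of order `l`
  set x1 := x0 ^ m with hx1
  have hx1l : orderOf x1 = l := by
    rw [hx1, orderOf_pow_of_dvd hm0 (by rw [hx0, hm]; exact Dvd.intro_left _ rfl), hx0, hm,
      Nat.mul_div_cancel _ (Nat.pos_of_ne_zero hm0)]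
  have hne1 : ∀ {x : ↥(twistedD4 K q)}, orderOf x = l → x ≠ 1 := by
    intro x hx h
    rw [h, orderOf_one] at hx
    exact hl.one_lt.ne hx
  have hx1T : x1 ∈ zpowers x0 := npow_mem_zpowers x0 m
  have hT : centralizer {x1} = zpowers x0 := hx0c x1 hx1T (hne1 hx1l)
  set T := zpowers x0 with hTdef
  have hTcard : Nat.card ↥T = N := by rw [hTdef, Nat.card_zpowers, hx0]
  have hcyc : IsCyclic ↥T := by rw [hTdef]; infer_instance
  have hbx : b x1 = x1 ^ r := by rw [hx1, map_pow, hb, ← pow_mul, ← pow_mul, mul_comm]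
  have hcard := S1067.result hq hK
  have hidx : T.index * N = q ^ 12 * (q ^ 2 - 1) * (q ^ 6 - 1) * (q ^ 8 + q ^ 4 + 1) := by
    rw [← hcard, ← hTcard, mul_comm]
    exact T.card_mul_index
  have hmod : ∀ m, m ∣ N → T.index ≡ 4 [MOD m] := fun m hm => RowD4.index_mod hq.one_lt.le hm hidx
  have hout : (MulAut.conj : ↥(twistedD4 K q) →* MulAut ↥(twistedD4 K q)).range.index = 3 * f := by
    rw [← H997.OutCard.card_out, H69.OutTwD4.card_out hq hK r, H166.FieldAut.card_ringAut r (3 * f)]
    rw [hK, ← hqf, ← pow_mul, mul_comm]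
  have hstab : Nat.card ↥(MulAction.stabilizer (MulAut ↥(twistedD4 K q)) x1) ≤ Nat.card ↥T := by
    have := H83.AutCount.card_fix_le hl hx1l hT hcyc hZ (c := 4) (by norm_num) (by omega) (hmod l ⟨m, hm⟩) hbx hord (d := 1)
      (by rw [hout]; omega) (by omega)
    rwa [one_mul] at this
  have hTx : ∀ y ∈ T, y * x1 = x1 * y := fun y hy => by
    rw [← hT] at hy
    exact mem_centralizer_singleton_iff.1 hy
  have hlidx : ¬ l ∣ T.index := by
    intro h
    have h1 := hmod l ⟨m, hm⟩
    have h2 : l ∣ 4 := (Nat.modEq_zero_iff_dvd).1 (h1.symm.trans (Nat.modEq_zero_iff_dvd.2 h))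
    have := Nat.le_of_dvd (by norm_num) h2
    omega
  -- all elements of order `l`
  have hall : ∀ x : ↥(twistedD4 K q), orderOf x = l → ∃ g, centralizer {g * x * g⁻¹} = T := by
    intro x hx
    obtain ⟨g, hg⟩ := exists_conj hl hcyc hlidx hx1T hx1l hx
    refine ⟨g, hx0c _ ((zpowers_le.2 hx1T) hg) ?_⟩
    apply hne1
    rw [← hx]; exact MulEquiv.orderOf_eq (MulAut.conj g) x
  have hallc : ∀ x : ↥(twistedD4 K q), orderOf x = l → Nat.card ↥(centralizer ({x} : Set _)) = N := by
    intro x hx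
    obtain ⟨g, hg⟩ := hall x hx
    rw [← card_centralizer_conj g, hg, hTcard]
  have hallcyc : ∀ x : ↥(twistedD4 K q), orderOf x = l → IsCyclic ↥(centralizer ({x} : Set _)) := by
    intro x hx
    obtain ⟨g, hg⟩ := hall x hx
    refine isCyclic_centralizer_conj g x ?_
    rw [hg]; exact hcyc
  have hq1 := hq.one_lt
  have hrq : r ∣ q := by rw [← hqf]; exact dvd_pow_self r (by omega)
  have hNq : N = q ^ 2 * (q ^ 2 - 1) + 1 := by
    have h1 : 1 ≤ q ^ 2 := Nat.one_le_pow _ _ (by omega)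
    have h2 : q ^ 2 ≤ q ^ 4 := Nat.pow_le_pow_right (by omega) (by norm_num)
    rw [hN]
    zify [h1, h2]
    ring
  have hrN : ¬ r ∣ N := by
    intro h
    rw [hNq] at h
    have h1 : r ∣ q ^ 2 * (q ^ 2 - 1) := (dvd_pow hrq (by norm_num)).mul_right _
    exact hr''.one_lt.ne' (Nat.dvd_one.1 ((Nat.dvd_add_right h1).1 h))
  have h2N : ¬ 2 ∣ N := by
    intro h
    rw [hNq] at h
    have h1 : 2 ∣ q ^ 2 * (q ^ 2 - 1) := by
      have h3 : 1 ≤ q ^ 2 := Nat.one_le_pow _ _ (by omega)
      rw [show q ^ 2 * (q ^ 2 - 1) = (q ^ 2 - 1) * (q ^ 2 - 1 + 1) by rw [Nat.sub_add_cancel h3, mul_comm]]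
      exact even_iff_two_dvd.1 (Nat.even_mul_succ_self _)
    omega
  have h2S : 2 ∣ Nat.card ↥(twistedD4 K q) := by
    rw [hcard]
    have h3 : 1 ≤ q ^ 2 := Nat.one_le_pow _ _ (by omega)
    have h1 : 2 ∣ q ^ 2 * (q ^ 2 - 1) := by
      rw [show q ^ 2 * (q ^ 2 - 1) = (q ^ 2 - 1) * (q ^ 2 - 1 + 1) by rw [Nat.sub_add_cancel h3, mul_comm]]
      exact even_iff_two_dvd.1 (Nat.even_mul_succ_self _)
    refine h1.trans ⟨q ^ 10 * ((q ^ 6 - 1) * (q ^ 8 + q ^ 4 + 1)), by ring⟩
  have h12 : 12 * f ≤ v r ↥(twistedD4 K q) := by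
    rw [v, ← hr''.pow_dvd_iff_le_factorization Nat.card_pos.ne', hcard, mul_comm 12 f, pow_mul, hqf, mul_assoc,
      mul_assoc]
    exact Dvd.intro _ rfl
  have hv3 : (out ↥(twistedD4 K q)).factorization r = (3 * f).factorization r := by rw [out, hout]
  have hg : Good ↥(twistedD4 K q) l := by
    refine ⟨hl, by omega, ?_⟩
    have h1 : (out ↥(twistedD4 K q)).factorization l = 0 := by
      rw [out, hout]
      apply Nat.factorization_eq_zero_of_not_dvd
      intro h
      have := Nat.le_of_dvd (by omega) h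
      omega
    rw [h1, v_pos hl]
    rw [← hx1l]
    exact orderOf_dvd_natCard x1
  refine row_tor hZ hr'' hg (f := f) (tors_of hl hcyc hlidx hx1T hx1l hTcard (fun y hy hy1 => (hx0c y hy hy1).le)
    fun b hb => inner_of_fix hZ hTx hstab hb) hrN h2N ?_ (by omega) (fun b hb hbr => syl hq hK hqf.symm hb hbr) ?_ ?_ h2S
    fun hr2 y hy => bt hq hK hqf.symm (by omega) hr2 hy
  · intro hr2 H hH hlH
    have h1 := odd_bound_of_uniq (a := 0) (b := 0) hr'' hl (Ne.symm hlr) (uniq_of_cyclic hallcyc)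
      (fun X hX x hxX hx => by
        have h2 := RowD4.noNorm_own hq hK hqf.symm (by omega) hl hord ⟨m, hm⟩ hlr hx (hallc x hx) X hX hxX
        rw [h2, v, Subgroup.card_bot, Nat.factorization_one]
        exact le_rfl)
      (fun x hx => by
        have hcx := hallc x hx
        have h3 : (centralizer ({x} : Set ↥(twistedD4 K q))).index = T.index := by
          have h4 := (centralizer ({x} : Set ↥(twistedD4 K q))).card_mul_index
          have h5 := T.card_mul_index
          rw [hcx] at h4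
          rw [hTcard] at h5
          exact Nat.eq_of_mul_eq_mul_left hNpos (h4.trans h5.symm)
        have h2 := card_norm hl hx rfl (hallcyc x hx) (c := 4) (by norm_num) (by omega)
          (by rw [h3]; exact hmod l ⟨m, hm⟩)
        rw [v, h2, hcx]
        apply le_of_eq
        apply Nat.factorization_eq_zero_of_not_dvd
        intro h6
        rcases hr''.dvd_mul.1 h6 with h7 | h7
        · have h8 : r ∣ 2 ^ 2 := h7
          exact hr2 ((Nat.prime_dvd_prime_iff_eq hr'' Nat.prime_two).1 (hr''.dvd_of_dvd_pow h8))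
        · exact hrN h7) H hH hlH
    omega
  · rw [hv3]
    rcases fact_out hr'' (f := f) (by omega) with h | ⟨rfl, rfl⟩
    · exact Or.inl h
    · right
      have h1 : q = 3 := by rw [← hqf]; norm_num
      have h2 : N = 73 := by rw [hN, h1]; norm_num
      intro t ht htN
      have h73 : Nat.Prime 73 := by norm_num
      rw [h2] at htN
      rw [(Nat.prime_dvd_prime_iff_eq ht h73).1 htN]
      have h3 : l ∣ 73 := ⟨m, by rw [← h2, hm]⟩
      exact ((Nat.prime_dvd_prime_iff_eq hl h73).1 h3).symm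
  · rw [hv3, fact_three_mul (by omega)]
    have h1 := fact_three (p := r)
    have h2 := fact_lt hr'' (f := f) (by omega)
    omega

/-- **The row `³D₄(q)` of S4246.** -/
theorem row_3d4 {G : Type*} [Group G] {K : Type u} [Field K] [Fintype K] {q : ℕ} (hq : IsPrimePow q)
    (hK : Fintype.card K = q ^ 3) (e : G ≃* ↥(twistedD4 K q)) : Row G := (row_tw hq hK).congr e

/-- **The row `³D₄(q)` of S4246.** -/
theorem row_iso3D4 {G : Type*} [Group G] (h : Lie.Iso3D4 G) : Row G := by
  obtain ⟨K, i1, i2, q, hq, hK, ⟨e⟩⟩ := h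
  exact row_3d4 hq hK e

end Cfsg.Agent.H699.PD
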