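import Cfsg.Agent.H160.PD.Tools
import Cfsg.Agent.H83.AutCount

/-!
# S4246: a criterion with one regular torus (helper699)

`row_tor` : `S` in characteristic `p`, `l` a good prime; every element `x` of order `l` lies in a subgroup `T` of order `N`
prime to `2 p`, `C(y) ≤ T` for `1 ≠ y ∈ T`, and the automorphisms fixing `x` are the conjugations by elements of `T`.
-/

set_option autoImplicit false
set_option linter.unusedSectionVars false

namespace Cfsg.Agent.H699.PD

open Subgroup Cfsg.Agent.H160.PD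

variable {S : Type*} [Group S]

/-- a regular torus for the elements of order `l` -/
def Tors (S : Type*) [Group S] (l N : ℕ) : Prop :=
  ∀ x : S, orderOf x = l → ∃ T : Subgroup S, Nat.card T = N ∧ (∀ y ∈ T, y ≠ 1 → centralizer {y} ≤ T) ∧
    ∀ b : MulAut S, b x = x → ∃ s ∈ T, b = MulAut.conj s

variable [Finite S]

/-- a group of automorphisms inside the conjugations by `T` -/
theorem card_dvd_of_inner {T : Subgroup S} {H : Subgroup (MulAut S)} (h : ∀ b ∈ H, ∃ s ∈ T, b = MulAut.conj s) :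
    Nat.card H ∣ Nat.card T := by
  have h1 : H ≤ T.map (MulAut.conj : S →* MulAut S) := by
    intro b hb
    obtain ⟨s, hs, rfl⟩ := h b hb
    exact ⟨s, hs, rfl⟩
  exact (card_dvd_of_le h1).trans (Subgroup.card_map_dvd _ _)

theorem v_zero_of_dvd {X : Type*} {N r : ℕ} (h : Nat.card X ∣ N) (hr : ¬ r ∣ N) : v r X = 0 :=
  Nat.factorization_eq_zero_of_not_dvd fun h1 => hr (h1.trans h)

/-- **The criterion.** -/
theorem row_tor (hZ : center S = ⊥) {p l N f : ℕ} (hp : p.Prime) (hg : Good S l) (hT : Tors S l N)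
    (hpN : ¬ p ∣ N) (h2N : ¬ 2 ∣ N)
    (hodd : p ≠ 2 → ∀ H : Subgroup S, Odd (Nat.card H) → l ∣ Nat.card H → v p H = 0)
    (hf : 0 < f) (hsyl : ∀ b : MulAut S, (orderOf b).Prime → orderOf b ≠ p → v p (Fx b) + f ≤ v p S)
    (hout : (out S).factorization p < f ∨ ∀ t, t.Prime → t ∣ N → t = l)
    (hout' : (out S).factorization p < v p S) (h2 : 2 ∣ Nat.card S)
    (hbt : p ≠ 2 → ∀ y : S, orderOf y = p → v 2 (centralizer {y}) < v 2 S) : Row S := by
  have key : ∀ (π : Set ℕ) (L K L' K' : Subgroup (MulAut S)), Cfg π L K L' K' → In L K l → False := by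
    intro π L K L' K' h hI
    have hv2 : 0 < v 2 S := (v_pos Nat.prime_two).2 h2
    obtain ⟨b', hb', t', ht', htπ', ht2', hbo'⟩ := h.symm.exists_prime
    rcases hI with h0 | h0
    · -- `l ∈ π`
      obtain ⟨x, hx, hxo⟩ := Cfg.exists_mem hg.prime h0
      obtain ⟨T, hTN, hTc, hTf⟩ := hT x hxo
      have hK : Nat.card K ∣ N := hTN ▸ card_dvd_of_inner fun b hb => hTf b (h.fixK hZ hb hx)
      have hK2 := v_zero_of_dvd hK h2N
      have hKp := v_zero_of_dvd hK hpN
      have hn2 := h.numK 2 Nat.prime_two h.two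
      by_cases hpπ : p ∈ π
      · have hp2 : p ≠ 2 := fun h1 => h.two (h1 ▸ hpπ)
        have h1 := hodd hp2 (tr L) (h.odd hZ) h0
        have h3 := v_le hZ L p
        have h4 := h.numL p hp hpπ
        have h5 : p ∣ Nat.card (tr L') := by
          rw [← v_pos hp]
          simp only [v] at *
          omega
        obtain ⟨y, hy, hyo⟩ := Cfg.exists_mem hp h5
        have h6 := v_mono (h.symm.trK_le_centralizer hZ hy) 2
        have h7 := hbt hp2 y hyo
        simp only [v] at *
        omega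
      · have h1 := h.numK p hp hpπ
        have h3 := v_mono (h.symm.trK_le hZ hb') p
        have h4 := hsyl b' (hbo' ▸ ht') (by rw [hbo']; rintro rfl; exact hpπ htπ')
        simp only [v] at *
        omega
    · -- `l ∉ π`
      obtain ⟨x, hx, hxo⟩ := Cfg.exists_mem hg.prime h0
      obtain ⟨T, hTN, hTc, hTf⟩ := hT x hxo
      have hLi : ∀ b ∈ L, ∃ s ∈ T, b = MulAut.conj s := fun b hb => hTf b (h.fix hZ hb hx)
      have hL : Nat.card L ∣ N := hTN ▸ card_dvd_of_inner hLi
      obtain ⟨b, hb, t, ht, htπ, ht2, hbo⟩ := h.exists_prime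
      obtain ⟨s, hs, rfl⟩ := hLi b hb
      have hs1 : s ≠ 1 := by
        rintro rfl
        rw [map_one, orderOf_one] at hbo
        exact ht.one_lt.ne hbo
      have hK : Nat.card (tr K) ∣ N :=
        hTN ▸ card_dvd_of_le ((h.trK_le_centralizer hZ (x := s) hb).trans (hTc s hs hs1))
      have hLp := v_zero_of_dvd hL hpN
      have hK2 := v_zero_of_dvd hK h2N
      have hKp := v_zero_of_dvd hK hpN
      by_cases hpπ : p ∈ π
      · have hp2 : p ≠ 2 := fun h1 => h.two (h1 ▸ hpπ)
        have h1 := h.numL p hp hpπ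
        have h3 := h.numK' 2 Nat.prime_two h.two
        have h4 : 2 ∣ Nat.card K' := by
          rw [← v_pos Nat.prime_two]
          simp only [v] at *
          omega
        have := Fact.mk Nat.prime_two
        obtain ⟨⟨c, hc⟩, hco⟩ := exists_prime_orderOf_dvd_card' 2 h4
        have hco' : orderOf c = 2 := by rw [← hco]; exact (Subgroup.orderOf_mk c hc).symm
        have h5 : tr L' ≤ Fx c := fun x hx => h.symm.fixK hZ hc hx
        have h6 := v_mono h5 p
        have h7 := hsyl c (hco' ▸ Nat.prime_two) (by rw [hco']; exact fun h => hp2 h.symm)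
        simp only [v] at *
        omega
      · rcases hout with hout | hout
        · have h1 := h.numK p hp hpπ
          have h3 := v_le hZ K p
          have h4 := v_mono (h.symm.trK_le hZ hb') p
          have h5 := hsyl b' (hbo' ▸ ht') (by rw [hbo']; rintro rfl; exact hpπ htπ')
          simp only [v] at *
          omega
        · have h1 : t ∣ N := by
            rw [← hbo]
            exact (Subgroup.orderOf_mk _ hb ▸ orderOf_dvd_natCard (⟨MulAut.conj s, hb⟩ : L)).trans hL
          have h3 := hout t ht h1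
          subst h3
          exact h.not_mem_pi_of_dvd hZ ht h0 htπ
  intro π L K L' K' h
  rcases h.cover hZ hg with h0 | h0
  · exact key _ _ _ _ _ h h0
  · exact key _ _ _ _ _ h.symm h0

/-! ### one element of order `l` -/

/-- every element of order `l` is conjugate into `⟨x₁⟩` -/
theorem exists_conj {l : ℕ} (hl : l.Prime) {T : Subgroup S} (hcyc : IsCyclic T) (hidx : ¬ l ∣ T.index) {x₁ : S}
    (hx₁ : x₁ ∈ T) (hx₁l : orderOf x₁ = l) {x : S} (hx : orderOf x = l) : ∃ g : S, g * x * g⁻¹ ∈ zpowers x₁ := by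
  have : Fact l.Prime := ⟨hl⟩
  obtain ⟨Q⟩ : Nonempty (Sylow l ↥T) := inferInstance
  have hQ : IsPGroup l ↥((Q : Subgroup ↥T).map T.subtype) := Q.isPGroup'.map _
  obtain ⟨P, hP⟩ := hQ.exists_le_sylow
  have h1 : Nat.card ↥((Q : Subgroup ↥T).map T.subtype) = Nat.card ↥(P : Subgroup S) := by
    rw [Subgroup.card_map_of_injective T.subtype_injective]
    rw [show Nat.card ↥(P : Subgroup S) = Nat.card P from rfl, show Nat.card ↥(Q : Subgroup ↥T) = Nat.card Q from rfl,
      P.card_eq_multiplicity, Q.card_eq_multiplicity]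
    have h2 : Nat.card ↥T * T.index = Nat.card S := T.card_mul_index
    rw [← h2, Nat.factorization_mul Nat.card_pos.ne' T.index_ne_zero_of_finite, Finsupp.add_apply,
      Nat.factorization_eq_zero_of_not_dvd hidx, add_zero]
  have h3 : (Q : Subgroup ↥T).map T.subtype = (P : Subgroup S) := Subgroup.eq_of_le_of_card_ge hP h1.ge
  obtain ⟨P', hP'⟩ := (isPGroup_zpowers hx).exists_le_sylow
  obtain ⟨g, hg⟩ := MulAction.exists_smul_eq S P' P
  refine ⟨g, ?_⟩
  have h4 : g * x * g⁻¹ ∈ (P : Subgroup S) := by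
    rw [← hg, Sylow.coe_subgroup_smul]
    exact Subgroup.smul_mem_pointwise_smul x (MulAut.conj g) _ (hP' (mem_zpowers x))
  have h5 : g * x * g⁻¹ ∈ T := by
    rw [← h3] at h4
    exact map_subtype_le _ h4
  refine H83.AutCount.mem_zpowers_of_cyclic hcyc hl hx₁l hx₁ h5 ?_
  rw [conj_pow, ← hx, pow_orderOf_eq_one, mul_one, mul_inv_cancel]

/-- `Tors` from one element -/
theorem tors_of {l N : ℕ} (hl : l.Prime) {T : Subgroup S} (hcyc : IsCyclic T) (hidx : ¬ l ∣ T.index) {x₁ : S}
    (hx₁ : x₁ ∈ T) (hx₁l : orderOf x₁ = l) (hN : Nat.card T = N) (hc : ∀ y ∈ T, y ≠ 1 → centralizer {y} ≤ T)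
    (hfix : ∀ b : MulAut S, b x₁ = x₁ → ∃ s ∈ T, b = MulAut.conj s) : Tors S l N := by
  intro x hx
  obtain ⟨g, hg⟩ := exists_conj hl hcyc hidx hx₁ hx₁l hx
  have hgo : orderOf (g * x * g⁻¹) = l := by rw [← hx]; exact MulEquiv.orderOf_eq (MulAut.conj g) x
  have hx₁g : x₁ ∈ zpowers (g * x * g⁻¹) := by
    have h1 : zpowers (g * x * g⁻¹) = zpowers x₁ := by
      apply Subgroup.eq_of_le_of_card_ge (zpowers_le.2 hg)
      rw [Nat.card_zpowers, Nat.card_zpowers, hgo, hx₁l]
    rw [h1]
    exact mem_zpowers x₁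
  have hmem : ∀ y, y ∈ T.map (MulAut.conj g⁻¹).toMonoidHom ↔ g * y * g⁻¹ ∈ T := by
    intro y
    constructor
    · rintro ⟨w, hw, rfl⟩
      have e : g * (MulAut.conj g⁻¹).toMonoidHom w * g⁻¹ = w := by
        show g * (g⁻¹ * w * g⁻¹⁻¹) * g⁻¹ = w
        group
      rw [e]; exact hw
    · intro hy
      refine ⟨_, hy, ?_⟩
      show g⁻¹ * (g * y * g⁻¹) * g⁻¹⁻¹ = y
      group
  refine ⟨T.map (MulAut.conj g⁻¹).toMonoidHom, ?_, ?_, ?_⟩
  · rw [Subgroup.card_map_of_injective (MulAut.conj g⁻¹).injective, hN]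
  · intro y hy hy1 z hz
    rw [hmem] at hy ⊢
    refine hc _ hy ?_ ?_
    · intro h1
      apply hy1
      have h2 : y = g⁻¹ * (g * y * g⁻¹) * g := by group
      rw [h2, h1]; group
    · rw [mem_centralizer_singleton_iff] at hz ⊢
      have h1 : g * z * g⁻¹ * (g * y * g⁻¹) = g * (z * y) * g⁻¹ := by group
      have h2 : g * y * g⁻¹ * (g * z * g⁻¹) = g * (y * z) * g⁻¹ := by group
      rw [h1, h2, hz]
  · intro b hb
    have hb' : (MulAut.conj g * b * (MulAut.conj g)⁻¹) (g * x * g⁻¹) = g * x * g⁻¹ := by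
      rw [MulAut.mul_apply, MulAut.mul_apply, ← map_inv, MulAut.conj_apply, MulAut.conj_apply]
      have e : g⁻¹ * (g * x * g⁻¹) * g⁻¹⁻¹ = x := by group
      rw [e, hb]
    have hb'' : (MulAut.conj g * b * (MulAut.conj g)⁻¹) x₁ = x₁ := by
      obtain ⟨k, hk⟩ := hx₁g
      rw [← hk]
      show (MulAut.conj g * b * (MulAut.conj g)⁻¹) ((g * x * g⁻¹) ^ k) = (g * x * g⁻¹) ^ k
      rw [map_zpow, hb']
    obtain ⟨s, hs, he⟩ := hfix _ hb''
    refine ⟨g⁻¹ * s * g, ?_, ?_⟩
    · rw [hmem]
      have e : g * (g⁻¹ * s * g) * g⁻¹ = s := by group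
      rw [e]; exact hs
    · have h1 : b = (MulAut.conj g)⁻¹ * (MulAut.conj g * b * (MulAut.conj g)⁻¹) * MulAut.conj g := by group
      rw [h1, he, map_mul, map_mul, map_inv]

end Cfsg.Agent.H699.PD
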