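import Cfsg.Agent.H485.Frame
import Cfsg.Agent.H851.SimsRgd
import Cfsg.Agent.KFacts.RgdBorelTits
import Cfsg.Agent.Nodes.CardSup
import Cfsg.Agent.KFacts.RgdFixU
import Cfsg.Agent.H160.PD.Def

/-!
# S4246: fixed points of automorphisms of order prime to `p` of a group with a root group datum (helper699)

* `exists_small` : `|U : U ∩ U^s| ≥ |X (sr i)|` for some `i` if `s ∉ B`;
* `exists_frame_fix` : an automorphism `α` of order prime to `p` fixing pointwise a `p`-group `R'` with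
  `|U : R'| < |X (sr i)|` for all `i` fixes a frame, and `R'` lies in `U` (up to conjugation);
* `card_mul_le` : `|R'| |X (sr i)| ≤ |U| |C_{X (sr i)}(β)|`.
-/

set_option autoImplicit false
set_option linter.unusedSectionVars false

open scoped Pointwise

namespace Cfsg.Agent.H699.PD

open CoxeterSystem Cfsg.Agent.ChevalleyStructure.CoxeterGeom Cfsg.Agent.Tits.Roots Cfsg.Agent.Tits.Core
  Cfsg.Agent.Tits.Exchange Cfsg.Agent.Nodes.Reps Cfsg.Agent.Nodes.BNOf Cfsg.Agent.Nodes.StabComb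
  Cfsg.Agent.Nodes.Bruhat Cfsg.Agent.Nodes.OppDec Cfsg.Agent.Nodes.LeviDec Cfsg.Agent.Nodes.NormalForm
  Cfsg.Agent.KFacts.RgdOpp Cfsg.Agent.KFacts.RgdAut Cfsg.Agent.KFacts.RgdDiag Cfsg.Agent.KFacts.RgdRigid
  Cfsg.Agent.Solvable.Glauberman Cfsg.Agent.H485.Frame

variable {I W Y : Type*} [Fintype I] [DecidableEq I] [Group W] [Group Y] {M : CoxeterMatrix I}
  {cs : CoxeterSystem M W} {A : I → I → ℤ} {h : IsCartan M A} {p : ℕ} {T : Subgroup Y} {n : I → Y}
  {X : (I → ℤ) → Subgroup Y} (R : RGD cs h p T n X)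

theorem relIndex_cj (g : Y) (A B : Subgroup Y) : (cj g A).relIndex (cj g B) = A.relIndex B := by
  unfold cj
  rw [← Subgroup.relIndex_comap, Subgroup.comap_map_eq_self_of_injective (MulAut.conj g).injective]

include R

/-- `|U : U ∩ U^s| ≥ |X (sr i)|` for some `i` if `s ∉ B`. -/
theorem exists_small [Finite W] [Finite Y] (hG : GG cs h T X = ⊤) {s : Y} (hs : s ∉ RGD.B cs h T X) :
    ∃ i, Nat.card ↥(X (sr i)) ≤
      (cj s (RGD.Sup X (RGD.Pos cs h))).relIndex (RGD.Sup X (RGD.Pos cs h)) := by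
  set U := RGD.Sup X (RGD.Pos cs h) with hU
  obtain ⟨w, b₁, hb₁, k, hk, b₂, hb₂, e⟩ := (mem_GG R).1 (show s ∈ GG cs h T X by rw [hG]; trivial)
  have hBU : ∀ b ∈ RGD.B cs h T X, cj b U = U := fun b hb => mem_normalizer_iff_cj.1 (R.B_le_normalizer_U hb)
  have hw1 : w ≠ 1 := by
    rintro rfl
    apply hs
    rw [e]
    exact mul_mem (mul_mem hb₁ (RGD.T_le_B hk.mem_of_one)) hb₂
  obtain ⟨i, hi⟩ : ∃ i, cs.IsLeftDescent w i := cs.exists_leftDescent_of_ne_one hw1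
  have hneg : rep cs h w⁻¹ (sr i) ≤ 0 := by
    refine nonpos_of_lt cs h w⁻¹ i ?_
    rw [cs.length_inv, ← cs.length_inv (w⁻¹ * cs.simple i), mul_inv_rev, inv_inv, cs.inv_simple]
    exact hi
  have hroot := (isRoot_sr cs h i).act w⁻¹
  refine ⟨i, ?_⟩
  have hinf : X (sr i) ⊓ cj k U = ⊥ := by
    rw [Subgroup.eq_bot_iff_forall]
    rintro x ⟨hx1, hx2⟩
    have h1 : k⁻¹ * x * k ∈ X (rep cs h w⁻¹ (sr i)) := R.conj_mem' hk (isRoot_sr cs h i) hx1
    have h3 := eq_one_of_mem_U_of_mem_BN R (mem_cj.1 hx2) (X_le_BN hroot hneg h1)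
    have h4 : x = k * (k⁻¹ * x * k) * k⁻¹ := by group
    rw [h4, h3]; group
  have h1 : (cj s U).relIndex U = (cj k U).relIndex U := by
    rw [e, cj_mul, cj_mul, hBU b₂ hb₂]
    conv_lhs => rw [← hBU b₁ hb₁]
    rw [hBU b₁ hb₁]
    conv_lhs => rw [show (cj b₁ (cj k U)).relIndex U = (cj b₁ (cj k U)).relIndex (cj b₁ U) by rw [hBU b₁ hb₁]]
    rw [relIndex_cj]
  have hXU : X (sr i) ≤ U := RGD.le_Sup (S := RGD.Pos cs h) ⟨isRoot_sr cs h i, sr_nonneg i⟩
  have h2 : (cj k U).relIndex (X (sr i)) ≤ (cj k U).relIndex U :=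
    Subgroup.relIndex_le_of_le_right hXU Subgroup.index_ne_zero_of_finite
  rw [← Subgroup.inf_relIndex_left, hinf, Subgroup.relIndex_bot_left] at h2
  rw [h1]
  exact h2

/-- An automorphism of order prime to `p` fixing `U` fixes some opposite `U⁻`. -/
theorem exists_opp [Finite W] [Finite Y] [Fact p.Prime] (hG : GG cs h T X = ⊤) {α : MulAut Y}
    (hα : (orderOf α).Coprime p) (hU : Fix α (RGD.Sup X (RGD.Pos cs h))) :
    ∃ u ∈ RGD.Sup X (RGD.Pos cs h), Fix α (cj u (UN cs h X)) := by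
  have : Finite (MulAut Y) := inferInstance
  set U := RGD.Sup X (RGD.Pos cs h) with hUdef
  set A := Subgroup.zpowers α with hA
  have hUA : ∀ a ∈ A, Fix a U := by
    rintro _ ⟨k, rfl⟩
    have h1 : α ∈ ({
      carrier := {a | Fix a U}
      mul_mem' := fun ha hb => ha.mul hb
      one_mem' := fun _ => Iff.rfl
      inv_mem' := fun ha => ha.inv } : Subgroup (MulAut Y)) := hU
    exact Subgroup.zpow_mem _ h1 k
  have hconj : ∀ (a : MulAut Y) (u : Y), a * MulAut.conj u * a⁻¹ = MulAut.conj (a u) := by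
    intro a u
    ext x
    rw [MulAut.mul_apply, MulAut.mul_apply, MulAut.conj_apply, map_mul, map_mul, MulAut.apply_inv_self, map_inv,
      MulAut.conj_apply]
  have hN : A ≤ Subgroup.normalizer ((U.map (MulAut.conj : Y →* MulAut Y) : Subgroup (MulAut Y)) : Set (MulAut Y)) := by
    intro a ha
    rw [Subgroup.mem_normalizer_iff]
    intro b
    constructor
    · rintro ⟨u, hu, rfl⟩
      exact ⟨a u, (hUA a ha u).2 hu, (hconj a u).symm⟩
    · rintro ⟨u, hu, hb⟩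
      refine ⟨a⁻¹ u, ((hUA a ha).inv u).2 hu, ?_⟩
      rw [← hconj, hb]
      group
  have hcop : (Nat.card A).Coprime (Nat.card ↥(U.map (MulAut.conj : Y →* MulAut Y))) := by
    rw [hA, Nat.card_zpowers]
    refine Nat.Coprime.coprime_dvd_right (Subgroup.card_map_dvd _ _) ?_
    obtain ⟨k, hk⟩ := IsPGroup.iff_card.1 R.isPGroup_Upos
    rw [hk]
    exact Nat.Coprime.pow_right k hα
  have hsol : Group.IsSolvable A := by
    have hcyc : IsCyclic A := by rw [hA]; infer_instance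
    let _ := IsCyclic.commGroup (α := ↥A)
    exact (inferInstance : Group.IsSolvable ↥A)
  obtain ⟨k, ⟨u, hu, rfl⟩, h1⟩ := exists_smul_fixed A (U.map (MulAut.conj : Y →* MulAut Y)) hN hcop
    (Or.inl hsol) (X := Subgroup Y) (UN cs h X) (by
      intro a ha
      obtain ⟨u, hu, -, -, h3, -, -⟩ := exists_frame R hG (hUA a ha)
      refine ⟨MulAut.conj u⁻¹, ⟨u⁻¹, inv_mem hu, rfl⟩, ?_⟩
      rw [← smul_eq_iff_fix, mul_smul] at h3
      rw [map_inv, eq_inv_smul_iff]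
      exact h3)
  refine ⟨u, hu, ?_⟩
  rw [← smul_eq_iff_fix]
  exact h1 α (Subgroup.mem_zpowers α)

omit R in
theorem conj_conj_apply (g : Y) (α : MulAut Y) (x : Y) :
    (MulAut.conj g * α * (MulAut.conj g)⁻¹) x = g * α (g⁻¹ * x * g) * g⁻¹ := by
  rw [MulAut.mul_apply, MulAut.mul_apply, ← map_inv, MulAut.conj_apply, MulAut.conj_apply, inv_inv]

omit R in
theorem fix_conj {g : Y} {α : MulAut Y} {V : Subgroup Y} (hV : Fix α (cj g⁻¹ V)) :
    Fix (MulAut.conj g * α * (MulAut.conj g)⁻¹) V := by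
  intro x
  rw [conj_conj_apply]
  have h1 : g * α (g⁻¹ * x * g) * g⁻¹ ∈ V ↔ α (g⁻¹ * x * g) ∈ cj g⁻¹ V := by
    rw [mem_cj, inv_inv]
  have h2 : g⁻¹ * x * g ∈ cj g⁻¹ V ↔ x ∈ V := by
    rw [mem_cj, inv_inv]
    have e : g * (g⁻¹ * x * g) * g⁻¹ = x := by group
    rw [e]
  rw [h1, hV, h2]

/-- **The frame.** -/
theorem exists_frame_fix [Finite W] [Finite Y] [Fact p.Prime] (hG : GG cs h T X = ⊤) {α : MulAut Y}
    (hα : (orderOf α).Coprime p) {R' : Subgroup Y} (hp : IsPGroup p R') (hfix : ∀ x ∈ R', α x = x) {c : ℕ}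
    (hc : ∀ i, c ≤ Nat.card ↥(X (sr i))) (hR : Nat.card (RGD.Sup X (RGD.Pos cs h)) < Nat.card R' * c) :
    ∃ g : Y, Fix (MulAut.conj g * α * (MulAut.conj g)⁻¹) (RGD.Sup X (RGD.Pos cs h)) ∧
      Fix (MulAut.conj g * α * (MulAut.conj g)⁻¹) (UN cs h X) ∧ cj g R' ≤ RGD.Sup X (RGD.Pos cs h) ∧
      ∀ x ∈ cj g R', (MulAut.conj g * α * (MulAut.conj g)⁻¹) x = x := by
  set U := RGD.Sup X (RGD.Pos cs h) with hUdef
  have hfixg : ∀ g : Y, ∀ x ∈ cj g R', (MulAut.conj g * α * (MulAut.conj g)⁻¹) x = x := by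
    intro g x hx
    rw [conj_conj_apply, hfix _ (mem_cj.1 hx)]
    group
  have hord : ∀ g : Y, (orderOf (MulAut.conj g * α * (MulAut.conj g)⁻¹)).Coprime p := by
    intro g
    have h1 : orderOf (MulAut.conj g * α * (MulAut.conj g)⁻¹) = orderOf α :=
      MulEquiv.orderOf_eq (MulAut.conj (MulAut.conj g)) α
    rw [h1]; exact hα
  -- `R' ≤ U` after conjugation
  obtain ⟨g₁, hg₁⟩ := KFacts.RgdBorelTits.exists_conj_U hG hp R
  set g := g₁⁻¹ with hg
  set R₁ := cj g R' with hR₁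
  set α₁ := MulAut.conj g * α * (MulAut.conj g)⁻¹ with hα₁
  have hR₁U : R₁ ≤ U := by
    have h1 := cj_mono g hg₁
    rwa [hg, cj_inv_cj] at h1
  have hR₁c : Nat.card R₁ = Nat.card R' := Nodes.CardSup.card_cj R'
  have hR₁f := hfixg g
  -- `α₁` fixes `U`
  have hUp : IsPGroup p ↥(U.map α₁.toMonoidHom) := R.isPGroup_Upos.map _
  obtain ⟨s, hs⟩ := KFacts.RgdBorelTits.exists_conj_U hG hUp R
  have hs' : U.map α₁.toMonoidHom = cj s U := by
    apply Subgroup.eq_of_le_of_card_ge hs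
    rw [Nodes.CardSup.card_cj, Subgroup.card_map_of_injective α₁.injective]
  have hsB : s ∈ RGD.B cs h T X := by
    by_contra hs0
    obtain ⟨i, hi⟩ := exists_small R hG hs0
    have h1 : R₁ ≤ cj s U := by
      rw [← hs']
      intro x hx
      exact ⟨x, hR₁U hx, hR₁f x hx⟩
    have h2 : (cj s U).relIndex U * Nat.card R₁ ≤ Nat.card U := by
      have h3 : (cj s U).relIndex U ≤ R₁.relIndex U :=
        Subgroup.relIndex_le_of_le_left h1 Subgroup.index_ne_zero_of_finite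
      have h4 : Nat.card R₁ * R₁.relIndex U = Nat.card U := by
        rw [Subgroup.relIndex, ← Subgroup.card_mul_index (R₁.subgroupOf U)]
        congr 1
        exact (Nat.card_congr (Subgroup.subgroupOfEquivOfLe hR₁U).toEquiv).symm
      calc (cj s U).relIndex U * Nat.card R₁ ≤ R₁.relIndex U * Nat.card R₁ := Nat.mul_le_mul_right _ h3
        _ = Nat.card U := by rw [mul_comm, h4]
    have h3 : c * Nat.card R' ≤ Nat.card U := by
      rw [← hR₁c]
      exact (Nat.mul_le_mul_right _ ((hc i).trans hi)).trans h2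
    rw [mul_comm] at h3
    omega
  have hU1 : Fix α₁ U := by
    rw [fix_iff, hs']
    exact mem_normalizer_iff_cj.1 (R.B_le_normalizer_U hsB)
  -- the opposite group
  obtain ⟨u, hu, hu'⟩ := exists_opp R hG (hord g) hU1
  have hcu : cj u⁻¹ U = U := cj_eq_of_mem (inv_mem hu)
  have hcu' : cj u U = U := cj_eq_of_mem hu
  have e1 : MulAut.conj u⁻¹ * α₁ * (MulAut.conj u⁻¹)⁻¹ = MulAut.conj (u⁻¹ * g) * α * (MulAut.conj (u⁻¹ * g))⁻¹ := by
    rw [hα₁, map_mul]; group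
  refine ⟨u⁻¹ * g, ?_, ?_, ?_, hfixg _⟩
  · rw [← e1]
    apply fix_conj
    rw [inv_inv, hcu']
    exact hU1
  · rw [← e1]
    apply fix_conj
    rw [inv_inv]
    exact hu'
  · rw [cj_mul, ← hcu]
    exact cj_mono _ hR₁U

/-- `|U| = |X (sr i)| |V_i|` -/
theorem card_U [Finite W] (i : I) : Nat.card (RGD.Sup X (RGD.Pos cs h)) =
    Nat.card (X (sr i)) * Nat.card (RGD.Sup X (RGD.PosNe cs h i)) := by
  refine Nodes.CardSup.card_mul_of_disjoint (RGD.le_Sup (S := RGD.Pos cs h) ⟨isRoot_sr cs h i, sr_nonneg i⟩)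
    (KFacts.RgdFixU.V_le_U R i) (fun g hg => KFacts.RgdFixU.exists_mul_V R i hg) ?_
  rw [Subgroup.eq_bot_iff_forall]
  rintro x ⟨h1, h2⟩
  exact eq_one_of_mem_PosNe R h1 h2

/-- a frame automorphism with trivial permutation fixes `V_i` -/
theorem mem_V [Finite W] {β : MulAut Y} (D : Diag T X β 1) (i : I) {v : Y}
    (hv : v ∈ RGD.Sup X (RGD.PosNe cs h i)) : β v ∈ RGD.Sup X (RGD.PosNe cs h i) := by
  have h1 : RGD.Sup X (RGD.PosNe cs h i) ≤ (RGD.Sup X (RGD.PosNe cs h i)).comap β.toMonoidHom := by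
    refine RGD.Sup_le fun x hx y hy => ?_
    refine RGD.le_Sup (S := RGD.PosNe cs h i) hx ?_
    exact (Diag.root_comp R D (fun _ _ => rfl) hx.1 y).2 hy
  exact h1 hv

/-- **The fixed points in a simple root group.** -/
theorem card_mul_le [Finite W] [Finite Y] {β : MulAut Y} (D : Diag T X β 1) {R₁ : Subgroup Y}
    (hR : R₁ ≤ RGD.Sup X (RGD.Pos cs h)) (hf : ∀ x ∈ R₁, β x = x) (i : I) :
    Nat.card R₁ * Nat.card (X (sr i)) ≤
      Nat.card (RGD.Sup X (RGD.Pos cs h)) * Nat.card ↥(X (sr i) ⊓ H160.PD.Fx β) := by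
  set V := RGD.Sup X (RGD.PosNe cs h i) with hV
  have h1 : ∀ x : R₁, ∃ a : ↥(X (sr i) ⊓ H160.PD.Fx β), ∃ v : V, (x : Y) = a * v := by
    intro x
    obtain ⟨a, ha, v, hv, e⟩ := KFacts.RgdFixU.exists_mul_V R i (hR x.2)
    have h2 := hf x x.2
    rw [e, map_mul] at h2
    have h3 : β a ∈ X (sr i) := (D.pos i a).2 ha
    have h4 : β v ∈ V := mem_V R D i hv
    have h5 : a⁻¹ * β a = v * (β v)⁻¹ := by
      rw [eq_mul_inv_iff_mul_eq, mul_assoc, h2, inv_mul_cancel_left]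
    have h6 : a⁻¹ * β a = 1 :=
      eq_one_of_mem_PosNe R (mul_mem (inv_mem ha) h3) (by rw [h5]; exact mul_mem hv (inv_mem h4))
    exact ⟨⟨a, ha, (inv_mul_eq_one.1 h6).symm⟩, ⟨v, hv⟩, e⟩
  choose f g hfg using h1
  have h2 : Nat.card R₁ ≤ Nat.card ↥(X (sr i) ⊓ H160.PD.Fx β) * Nat.card V := by
    rw [← Nat.card_prod]
    refine Nat.card_le_card_of_injective (fun x => (f x, g x)) ?_
    intro x y hxy
    have h3 : f x = f y := congrArg Prod.fst hxy
    have h4 : g x = g y := congrArg Prod.snd hxy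
    apply Subtype.ext
    rw [hfg x, hfg y, h3, h4]
  calc Nat.card R₁ * Nat.card (X (sr i)) ≤ Nat.card ↥(X (sr i) ⊓ H160.PD.Fx β) * Nat.card V * Nat.card (X (sr i)) :=
        Nat.mul_le_mul_right _ h2
    _ = Nat.card (RGD.Sup X (RGD.Pos cs h)) * Nat.card ↥(X (sr i) ⊓ H160.PD.Fx β) := by
        rw [card_U R i]; ring

end Cfsg.Agent.H699.PD
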