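import Cfsg.Agent.H699.PD.Rgd
import Cfsg.Agent.H934.RowTwD4
import Cfsg.Agent.H69.OutTwD4
import Cfsg.Agent.H160.PD.Api

/-!
# S4246: the fixed points of the automorphisms of `³D₄(q)` of prime order `≠ p` (helper699)

`syl` : `|C(b)|_p q ≤ |³D₄(q)|_p`.
-/

set_option autoImplicit false
set_option linter.unusedSectionVars false

namespace Cfsg.Agent.H699.PD

section Field

variable {F : Type*} [Field F] [Finite F]

/-- the fixed points of a nontrivial field automorphism -/
theorem card_fix_sq (τ : F ≃+* F) (hτ : τ ≠ 1) : Nat.card {a : F // τ a = a} ^ 2 ≤ Nat.card F := by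
  let E : Subfield F := RingHom.eqLocusField (τ : F →+* F) (RingHom.id F)
  have hE : ∀ a, a ∈ E ↔ τ a = a := fun a => Iff.rfl
  have h1 : Nat.card {a : F // τ a = a} = Nat.card E := Nat.card_congr (Equiv.subtypeEquivRight fun a => (hE a).symm)
  have h2 : Nat.card F = Nat.card E ^ Module.finrank E F := Module.natCard_eq_pow_finrank
  have h3 : 1 < Nat.card E := Finite.one_lt_card
  have h4 : Module.finrank E F ≠ 1 := by
    intro h5
    apply hτ
    have h6 : Nat.card E = Nat.card F := by rw [h2, h5, pow_one]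
    have h7 : ((E : Subfield F) : Set F) = Set.univ := by
      apply Set.eq_of_subset_of_ncard_le (Set.subset_univ _)
      rw [Set.ncard_univ, ← h6]
      exact le_of_eq (Nat.card_coe_set_eq _)
    ext a
    have h8 : a ∈ ((E : Subfield F) : Set F) := by rw [h7]; trivial
    exact (hE a).1 h8
  have h5 : Module.finrank E F ≠ 0 := by
    have : 0 < Module.finrank E F := Module.finrank_pos
    omega
  rw [h1, h2]
  exact Nat.pow_le_pow_right (by omega) (by omega)

variable {Y : Type*} [Group Y] {T P : Subgroup Y} {x : F → Y} {χ : Y → F}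

open Cfsg.Agent.KFacts.RgdField in
/-- the fixed points of a semilinear map on a root group -/
theorem card_fix_le (C : Coord T P x χ) {β : MulAut Y} {τ : F ≃+* F} {c : F} (hc : c ≠ 0)
    (hβ : ∀ a, β (x a) = x (c * τ a)) : Nat.card ↥(P ⊓ H160.PD.Fx β) ≤ Nat.card {a : F // τ a = a} := by
  have : Finite {a : F // τ a = a} := inferInstance
  by_cases h0 : ∃ a₀, a₀ ≠ 0 ∧ c * τ a₀ = a₀
  · obtain ⟨a₀, ha₀, he⟩ := h0
    have key : ∀ y : ↥(P ⊓ H160.PD.Fx β), ∃ a : {a : F // τ a = a}, x (a₀ * a) = y := by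
      rintro ⟨y, hy, hyf⟩
      obtain ⟨b, rfl⟩ := (C.mem y).1 hy
      have h1 : c * τ b = b := by
        apply C.inj
        rw [← hβ]
        exact hyf
      refine ⟨⟨a₀⁻¹ * b, ?_⟩, ?_⟩
      · have h2 : τ a₀ ≠ 0 := fun h => ha₀ (by rw [← he, h, mul_zero])
        rw [map_mul, map_inv₀]
        have h3 : c * τ a₀ * (a₀⁻¹ * b) = c * τ a₀ * ((τ a₀)⁻¹ * τ b) := by
          rw [he, mul_inv_cancel_left₀ ha₀]
          conv_lhs => rw [← h1]
          field_simp
          linear_combination (τ b) * he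
        exact (mul_left_cancel₀ (mul_ne_zero hc h2) h3).symm
      · show x (a₀ * (a₀⁻¹ * b)) = x b
        rw [mul_inv_cancel_left₀ ha₀]
    choose f hf using key
    refine Nat.card_le_card_of_injective f fun y z hyz => Subtype.ext ?_
    rw [← hf y, ← hf z, hyz]
  · push Not at h0
    have h1 : Nat.card ↥(P ⊓ H160.PD.Fx β) = 1 := by
      rw [Subgroup.card_eq_one, Subgroup.eq_bot_iff_forall]
      rintro y ⟨hy, hyf⟩
      obtain ⟨b, rfl⟩ := (C.mem y).1 hy
      have h1 : c * τ b = b := by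
        apply C.inj
        rw [← hβ]
        exact hyf
      by_contra hb
      refine h0 b ?_ h1
      rintro rfl
      exact hb C.zero
    rw [h1]
    have : Nonempty {a : F // τ a = a} := ⟨⟨0, map_zero _⟩⟩
    exact Nat.card_pos

end Field

open CoxeterSystem Cfsg.Agent.ChevalleyStructure.CoxeterGeom Cfsg.Agent.Tits.Roots Cfsg.Agent.Tits.Core
  Cfsg.Agent.Tits.Exchange Cfsg.Agent.Nodes.Reps Cfsg.Agent.Nodes.BNOf Cfsg.Agent.Nodes.StabComb
  Cfsg.Agent.Nodes.Bruhat Cfsg.Agent.Nodes.OppDec Cfsg.Agent.Nodes.RGDTwGen Cfsg.Agent.Nodes.RGDChev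
  Cfsg.Agent.Nodes.RGDFold Cfsg.Agent.Nodes.RGDFoldSL
open Cfsg.Agent.KFacts.RgdOpp Cfsg.Agent.KFacts.RgdAut Cfsg.Agent.KFacts.RgdDiag Cfsg.Agent.KFacts.RgdRigid
  Cfsg.Agent.KFacts.RgdField Cfsg.Agent.KFacts.RgdTau Cfsg.Agent.KFacts.RgdNodes
open Cfsg.Lie Cfsg.Agent.ChevalleyStructure
open Cfsg.Agent.ChevalleyStructure.SL2Hom (up lo)
open Cfsg.Agent.KFacts.TwESix.NodeCoord
open Cfsg.Agent.KFacts.TwESix.Out (tau_eq)
open Cfsg.Agent.Nodes.RGDTwD4 Cfsg.Agent.Nodes.RGDTwNode.D4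
open Cfsg.Agent.KFacts.TwDFour.Out
open Cfsg.Agent.H160.PD (v Fx)

universe u

/-- the order of `U` -/
theorem card_U_eq {I W Y : Type*} [Fintype I] [DecidableEq I] [Group W] [Group Y] {M : CoxeterMatrix I}
    {cs : CoxeterSystem M W} {A : I → I → ℤ} {h : IsCartan M A} {p : ℕ} {T : Subgroup Y} {n : I → Y}
    {X : (I → ℤ) → Subgroup Y} [Finite W] [Finite Y] [hp : Fact p.Prime] (R : RGD cs h p T n X)
    (hG : GG cs h T X = ⊤) : Nat.card (RGD.Sup X (RGD.Pos cs h)) = p ^ v p Y := by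
  obtain ⟨k, hk⟩ := IsPGroup.iff_card.1 R.isPGroup_Upos
  have h1 := H851.SimsRgd.index_U R hG
  have h2 := Subgroup.card_mul_index (RGD.Sup X (RGD.Pos cs h))
  have h3 : v p Y = k := by
    rw [v, ← h2, hk, Nat.factorization_mul (pow_ne_zero _ hp.1.ne_zero) Subgroup.index_ne_zero_of_finite,
      Finsupp.add_apply, Nat.factorization_eq_zero_of_not_dvd h1, hp.1.factorization_pow, Finsupp.single_eq_same,
      add_zero]
  rw [h3, hk]

variable {K : Type u} [Field K] [Fintype K] {q : ℕ}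

/-- **The fixed points of the automorphisms of prime order `≠ p`.** -/
theorem syl (hq : IsPrimePow q) (hK : Fintype.card K = q ^ 3) {p f : ℕ} [hp : Fact p.Prime] [CharP K p]
    (hqf : q = p ^ f) {b : MulAut ↥(twistedD4 K q)} (hb : (orderOf b).Prime) (hbp : orderOf b ≠ p) :
    v p (Fx b) + f ≤ v p ↥(twistedD4 K q) := by
  by_contra hcon
  push Not at hcon
  obtain ⟨φ, hφ⟩ := D4Fixed.exists_frob hq hK
  let cs : CoxeterSystem CoxeterMatrix.G₂ CoxeterMatrix.G₂.Group := CoxeterMatrix.G₂.toCoxeterSystem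
  have hfin : Finite CoxeterMatrix.G₂.Group := Cfsg.Agent.Nodes.RGDFold.finite_W (hp := Cfsg.Agent.Nodes.RGDTwD4.hp) cs
    isCartan foldData
  have R := Cfsg.Agent.Nodes.RGDTwD4.rgd cs hK hφ p
  have hG1 : RGD.Sup (X φ q) {x | IsRoot cs isCartan x} = ⊤ := G1_eq_top cs hK hφ
  have hG := GG_eq_top (T := T K q) hG1
  have hq1 := hq.one_lt
  have hX := H934.RowTwD4.card_X hφ hq1 hK
  have hX0 : Nat.card ↥(X φ q (sr 0)) = q := by rw [hX]; rfl
  have hX1 : Nat.card ↥(X φ q (sr 1)) = q ^ 3 := by rw [hX]; rfl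
  -- a Sylow subgroup of the fixed points
  obtain ⟨P⟩ : Nonempty (Sylow p ↥(Fx b)) := inferInstance
  set R' := (P : Subgroup ↥(Fx b)).map (Fx b).subtype with hR'
  have hR'c : Nat.card R' = p ^ v p (Fx b) := by
    rw [hR', Subgroup.card_map_of_injective (Fx b).subtype_injective]
    exact P.card_eq_multiplicity
  have hU := card_U_eq R hG
  have hlt : Nat.card (RGD.Sup (X φ q) (RGD.Pos cs isCartan)) < Nat.card R' * q := by
    rw [hU, hR'c]
    calc p ^ v p ↥(twistedD4 K q) < p ^ (v p (Fx b) + f) := Nat.pow_lt_pow_right hp.1.one_lt hcon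
      _ = p ^ v p (Fx b) * q := by rw [pow_add, ← hqf]
  obtain ⟨g, g1, g2, g3, g4⟩ := exists_frame_fix R hG (α := b)
    ((Nat.coprime_primes hb hp.1).2 hbp) (R' := R') (P.isPGroup'.map _) (by
      rintro x ⟨y, -, rfl⟩
      exact y.2) (c := q) (by
      intro i
      rw [hX]
      split_ifs
      · exact le_rfl
      · exact Nat.le_self_pow (by norm_num) q) hlt
  set β := MulAut.conj g * b * (MulAut.conj g)⁻¹ with hβ
  set R₁ := cj g R' with hR₁
  have hR₁c : Nat.card R₁ = Nat.card R' := Nodes.CardSup.card_cj R'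
  rw [← hR₁c] at hlt
  have hβ1 : β = 1 := by
    obtain ⟨σ, D⟩ := exists_diag R hG g1 g2
    have h2 : σ = 1 := by
      apply perm_G2 σ
      intro h3
      have h4 := Diag.card_eq D 0
      rw [h3] at h4
      exact card_ne hφ hK hq1 h4
    subst h2
    obtain ⟨τ, S⟩ := exists_ntau (coordD hφ hK) D
    have h01 : ∀ a : KD φ 0, (τ 1 (Subfield.inclusion F1_le_F3 a) : K) = (τ 0 a : K) := by
      intro a
      have h1 := tau_eq R (i := (0 : Fin 2)) (mem_X hφ hK 0) (PhiD_wS hφ hK 0) (PhiD_hS hφ hK 0)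
        (χ := chD hφ hK 0) (χ' := chD hφ hK 1) (em := Subfield.inclusion F1_le_F3) (chD_hS hφ hK 0)
        (fun d hd => Subtype.ext (ch01 hφ hK d hd)) D (fun t ht => S.char 0 t ht) (fun t ht => S.char 1 t ht) a
      exact congrArg Subtype.val h1
    obtain ⟨c0, hc0, e0⟩ := NTau.semi (coordD hφ hK) S 0
    obtain ⟨c1, hc1, e1⟩ := NTau.semi (coordD hφ hK) S 1
    have m0 := card_mul_le R D g3 g4 0
    have m1 := card_mul_le R D g3 g4 1
    rw [hX0] at m0
    rw [hX1] at m1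
    have hRpos : 0 < Nat.card R₁ := Nat.card_pos
    -- the node `1`
    have k1 : q ^ 2 < Nat.card ↥(X φ q (sr 1) ⊓ Fx β) := by
      by_contra h1
      push Not at h1
      have h2 : Nat.card R₁ * q ^ 3 ≤ Nat.card (RGD.Sup (X φ q) (RGD.Pos cs isCartan)) * q ^ 2 :=
        m1.trans (Nat.mul_le_mul_left _ h1)
      have h3 : Nat.card (RGD.Sup (X φ q) (RGD.Pos cs isCartan)) * q ^ 2 < Nat.card R₁ * q * q ^ 2 :=
        Nat.mul_lt_mul_of_pos_right hlt (by positivity)
      have h4 : Nat.card R₁ * q * q ^ 2 = Nat.card R₁ * q ^ 3 := by ring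
      omega
    have hK1 : Nat.card (KD φ 1) = q ^ 3 := by
      rw [F3_eq_top hK hφ, ← hK, ← Nat.card_eq_fintype_card]
      exact Nat.card_congr Subfield.topEquiv.toEquiv
    have t1 : τ 1 = 1 := by
      by_contra hne
      have h1 := card_fix_sq (τ 1) hne
      have h2 := card_fix_le (coordD hφ hK 1) hc1 e1
      have h3 : (q ^ 2) ^ 2 < q ^ 3 := by
        calc (q ^ 2) ^ 2 < Nat.card ↥(X φ q (sr 1) ⊓ Fx β) ^ 2 := Nat.pow_lt_pow_left k1 (by norm_num)
          _ ≤ Nat.card {a : KD φ 1 // τ 1 a = a} ^ 2 := Nat.pow_le_pow_left h2 2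
          _ ≤ Nat.card (KD φ 1) := h1
          _ = q ^ 3 := hK1
      have h4 : q ^ 3 ≤ (q ^ 2) ^ 2 := by
        rw [← pow_mul]
        exact Nat.pow_le_pow_right (by omega) (by norm_num)
      omega
    have t0 : τ 0 = 1 := by
      ext a
      rw [← h01 a, t1]
      rfl
    -- the scalars
    have key : ∀ (i : Fin 2) (c : KD φ i), τ i = 1 → (∀ a, β (PhiD hφ hK i (up a)) = PhiD hφ hK i (up (c * τ i a))) →
        1 < Nat.card ↥(X φ q (sr i) ⊓ Fx β) → c = 1 := by
      intro i c ht he h1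
      have : Nontrivial ↥(X φ q (sr i) ⊓ Fx β) := Finite.one_lt_card_iff_nontrivial.1 h1
      obtain ⟨⟨y, hy, hyf⟩, hy1⟩ := exists_ne (1 : ↥(X φ q (sr i) ⊓ Fx β))
      obtain ⟨a, rfl⟩ := ((coordD hφ hK i).mem y).1 hy
      have h2 : β (PhiD hφ hK i (up a)) = PhiD hφ hK i (up a) := hyf
      rw [he, ht] at h2
      have h3 := (coordD hφ hK i).inj h2
      have h4 : a ≠ 0 := by
        rintro rfl
        apply hy1
        apply Subtype.ext
        exact (coordD hφ hK i).zero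
      have h5 : c * a = 1 * a := by rw [one_mul]; exact h3
      exact mul_right_cancel₀ h4 h5
    have d1 := key 1 c1 t1 e1 (lt_of_le_of_lt (Nat.one_le_pow _ _ (by omega)) k1)
    have d0 := key 0 c0 t0 e0 (by
      by_contra h1
      push Not at h1
      have h2 : Nat.card R₁ * q ≤ Nat.card (RGD.Sup (X φ q) (RGD.Pos cs isCartan)) * 1 :=
        m0.trans (Nat.mul_le_mul_left _ h1)
      omega)
    apply Diag.eq_one R hG1 D
    intro i y hy
    obtain ⟨a, rfl⟩ := ((coordD hφ hK i).mem y).1 hy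
    fin_cases i
    · show β (PhiD hφ hK 0 (up a)) = PhiD hφ hK 0 (up a)
      rw [e0, d0, t0, one_mul]
      rfl
    · show β (PhiD hφ hK 1 (up a)) = PhiD hφ hK 1 (up a)
      rw [e1, d1, t1, one_mul]
      rfl
  have hb1 : b = 1 := by
    have h1 : b = (MulAut.conj g)⁻¹ * β * MulAut.conj g := by rw [hβ]; group
    rw [h1, hβ1]; group
  rw [hb1, orderOf_one] at hb
  exact Nat.not_prime_one hb

end Cfsg.Agent.H699.PD
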